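import Mathlib
import Cfsg.Agent.Lib.Helper50.FOT.Defs
import Cfsg.Agent.S3359
import Cfsg.Agent.Lib.Helper5.Pres120

/-!
# FOT package [SL25]: a nonsolvable Frobenius complement has exactly 24 elements of order 5
and `5 ∥ |C|` (from the landed S3359).
-/

set_option autoImplicit false

namespace Cfsg.Agent.Lib.Helper23.FOT

open Cfsg.Agent.Lib.Helper50.FOT
open scoped Pointwise

universe u v

set_option maxRecDepth 100000 in
theorem fot_sl25_count :
    Fintype.card {g : Matrix.SpecialLinearGroup (Fin 2) (ZMod 5) // g ^ 5 = 1 ∧ g ≠ 1} = 24 := by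
  decide +kernel

theorem fot_sl25_order5 :
    Nat.card {g : Matrix.SpecialLinearGroup (Fin 2) (ZMod 5) // orderOf g = 5} = 24 := by
  have : Fact (Nat.Prime 5) := ⟨by norm_num⟩
  rw [← fot_sl25_count, ← Nat.card_eq_fintype_card]
  apply Nat.card_congr
  exact Equiv.subtypeEquivRight (fun g => orderOf_eq_prime_iff)

theorem fot_frob_map {X : Type u} {L : Type v} [Group X] [Group L] (ψ : X ≃* L) (C : Subgroup X)
    (hC : Cfsg.IsFrobeniusComplement C) :
    Cfsg.IsFrobeniusComplement (C.map (ψ : X →* L)) := by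
  obtain ⟨h1, h2, h3⟩ := hC
  refine ⟨?_, ?_, ?_⟩
  · intro h
    apply h1
    exact (Subgroup.map_eq_bot_iff_of_injective C ψ.injective).mp h
  · intro h
    apply h2
    rw [eq_top_iff]
    intro x _
    have hx : ψ x ∈ C.map (ψ : X →* L) := by rw [h]; trivial
    obtain ⟨c, hc, hcx⟩ := hx
    have hcx' : c = x := ψ.injective hcx
    rwa [← hcx']
  · intro g hg
    rw [eq_bot_iff]
    intro y hy
    obtain ⟨hy1, hy2⟩ := Subgroup.mem_inf.mp hy
    obtain ⟨c, hc, rfl⟩ := hy1
    rw [Subgroup.mem_pointwise_smul_iff_inv_smul_mem] at hy2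
    obtain ⟨c', hc', hcc⟩ := hy2
    have hxC : ψ.symm g ∉ C := by
      intro hxC
      apply hg
      exact ⟨ψ.symm g, hxC, by simp⟩
    have hc2 : c ∈ C ⊓ MulAut.conj (ψ.symm g) • C := by
      refine Subgroup.mem_inf.mpr ⟨hc, ?_⟩
      rw [Subgroup.mem_pointwise_smul_iff_inv_smul_mem]
      have hcc' : (MulAut.conj (ψ.symm g))⁻¹ • c = c' := by
        apply ψ.injective
        have e1 : ψ c' = (MulAut.conj g)⁻¹ • ψ c := hcc
        rw [e1, MulAut.smul_def, MulAut.smul_def, MulAut.conj_inv_apply, MulAut.conj_inv_apply]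
        simp
      rw [hcc']; exact hc'
    rw [h3 _ hxC, Subgroup.mem_bot] at hc2
    rw [Subgroup.mem_bot, hc2]
    simp

/-- a copy of `Fin n` carrying no algebraic instances -/
structure FotCopy (n : ℕ) : Type where
  /-- the underlying element -/
  val : Fin n

/-- the copy is equivalent to `Fin n` -/
def fotCopyEquiv (n : ℕ) : FotCopy n ≃ Fin n :=
  ⟨FotCopy.val, FotCopy.mk, fun _ => rfl, fun _ => rfl⟩

instance fotCopyFinite (n : ℕ) : Finite (FotCopy n) := Finite.of_equiv (Fin n) (fotCopyEquiv n).symm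

theorem fot_frob_transport {X : Type u} [Group X] [Finite X] (C : Subgroup X)
    (hC : Cfsg.IsFrobeniusComplement C) :
    ∃ (L : Type) (_ : Group L) (_ : Finite L) (H : Subgroup L),
      Cfsg.IsFrobeniusComplement H ∧ Nonempty (C ≃* H) := by
  classical
  let e : X ≃ FotCopy (Nat.card X) := (Finite.equivFin X).trans (fotCopyEquiv (Nat.card X)).symm
  letI : Group (FotCopy (Nat.card X)) := Equiv.group e.symm
  let φ : FotCopy (Nat.card X) ≃* X := Equiv.mulEquiv e.symm
  exact ⟨FotCopy (Nat.card X), inferInstance, inferInstance,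
    C.map (φ.symm : X →* FotCopy (Nat.card X)),
    fot_frob_map φ.symm C hC, ⟨φ.symm.subgroupMap C⟩⟩

theorem pkgSL25 : PkgSL25.{u} := by
  intro X _ _ C hC hns
  have : Fact (Nat.Prime 5) := ⟨by norm_num⟩
  obtain ⟨G₀, hG₀n, hidx, S, M, hsup, hinf, hcomm, ⟨eS⟩, -, hM30⟩ :=
    Cfsg.Agent.S3359.result (G := C) hns (fot_frob_transport C hC)
  have hS120 : Nat.card S = 120 := by
    rw [Nat.card_congr eS.toEquiv]; exact Cfsg.Agent.Lib.Helper5.Pres120.card_SL2_five
  have hprod : ∀ g ∈ G₀, ∃ s ∈ S, ∃ x ∈ M, g = s * x := by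
    intro g hg
    rw [← hsup] at hg
    let T : Subgroup C :=
      { carrier := {g | ∃ s ∈ S, ∃ x ∈ M, g = s * x}
        mul_mem' := by
          rintro a b ⟨s, hs, x, hx, rfl⟩ ⟨s', hs', x', hx', rfl⟩
          refine ⟨s * s', mul_mem hs hs', x * x', mul_mem hx hx', ?_⟩
          have h1 := hcomm s' hs' x hx
          calc s * x * (s' * x') = s * (x * s') * x' := by group
            _ = s * (s' * x) * x' := by rw [h1]
            _ = s * s' * (x * x') := by group
        one_mem' := ⟨1, S.one_mem, 1, M.one_mem, by simp⟩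
        inv_mem' := by
          rintro a ⟨s, hs, x, hx, rfl⟩
          refine ⟨s⁻¹, inv_mem hs, x⁻¹, inv_mem hx, ?_⟩
          have h1 := hcomm s⁻¹ (inv_mem hs) x⁻¹ (inv_mem hx)
          rw [h1]; group }
    have hT : S ⊔ M ≤ T :=
      sup_le (fun s hs => ⟨s, hs, 1, M.one_mem, by simp⟩) (fun x hx => ⟨1, S.one_mem, x, hx, by simp⟩)
    exact hT hg
  have hcardG0 : Nat.card G₀ = 120 * Nat.card M := by
    rw [← hS120, ← Nat.card_prod]
    symm
    apply Nat.card_congr
    refine Equiv.ofBijective (fun p => ⟨p.1.1 * p.2.1, ?_⟩) ⟨?_, ?_⟩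
    · rw [← hsup]; exact mul_mem (Subgroup.mem_sup_left p.1.2) (Subgroup.mem_sup_right p.2.2)
    · rintro ⟨⟨s, hs⟩, ⟨x, hx⟩⟩ ⟨⟨s', hs'⟩, ⟨x', hx'⟩⟩ h
      have h0 : s * x = s' * x' := by
        have := congrArg Subtype.val h
        exact this
      have h1 : s'⁻¹ * s = x' * x⁻¹ := by
        calc s'⁻¹ * s = s'⁻¹ * (s * x) * x⁻¹ := by group
          _ = s'⁻¹ * (s' * x') * x⁻¹ := by rw [h0]
          _ = x' * x⁻¹ := by group
      have h2 : s'⁻¹ * s ∈ S ⊓ M :=
        Subgroup.mem_inf.mpr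
          ⟨mul_mem (inv_mem hs') hs, by rw [h1]; exact mul_mem hx' (inv_mem hx)⟩
      rw [hinf, Subgroup.mem_bot] at h2
      have hs_eq : s = s' := by
        calc s = s' * (s'⁻¹ * s) := by group
          _ = s' := by rw [h2, mul_one]
      have hx_eq : x = x' := by
        rw [hs_eq] at h0
        exact mul_left_cancel h0
      subst hs_eq; subst hx_eq; rfl
    · rintro ⟨g, hg⟩
      obtain ⟨s, hs, x, hx, rfl⟩ := hprod g hg
      exact ⟨(⟨s, hs⟩, ⟨x, hx⟩), rfl⟩
  have hcardC : Nat.card C = 120 * Nat.card M * G₀.index := by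
    rw [← hcardG0]; exact (Subgroup.card_mul_index G₀).symm
  have h5M : ¬ 5 ∣ Nat.card M := by
    intro h
    have h1 : 5 ∣ Nat.gcd (Nat.card M) 30 := Nat.dvd_gcd h (by norm_num)
    rw [Nat.Coprime.gcd_eq_one hM30] at h1
    omega
  refine ⟨?_, ?_, ?_⟩
  · rw [← fot_sl25_order5]
    have hstep : Nat.card {y : C // orderOf y = 5} = Nat.card {s : S // orderOf s = 5} := by
      symm
      apply Nat.card_congr
      refine Equiv.ofBijective
        (fun s => ⟨s.1.1, by rw [Subgroup.orderOf_coe]; exact s.2⟩) ⟨?_, ?_⟩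
      · rintro ⟨⟨s, hs⟩, h1⟩ ⟨⟨s', hs'⟩, h1'⟩ h
        have h0 : s = s' := congrArg Subtype.val h
        subst h0; rfl
      · rintro ⟨y, hy⟩
        have hy5 : y ^ 5 = 1 := by rw [← hy]; exact pow_orderOf_eq_one y
        have hyG : y ∈ G₀ := by
          rcases hidx with h | h
          · rw [Subgroup.index_eq_one.mp h]; trivial
          · have h2 : y ^ 2 ∈ G₀ := Subgroup.sq_mem_of_index_two h y
            have h3 : y = (y ^ 2) ^ 3 := by
              rw [← pow_mul]
              calc y = y ^ 5 * y := by rw [hy5, one_mul]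
                _ = y ^ (2 * 3) := by rw [← pow_succ]
            rw [h3]; exact pow_mem h2 3
        obtain ⟨s, hs, x, hx, rfl⟩ := hprod y hyG
        have hc : Commute s x := hcomm s hs x hx
        have h5 : s ^ 5 * x ^ 5 = 1 := by rw [← hc.mul_pow]; exact hy5
        have hs5 : s ^ 5 ∈ S ⊓ M := by
          refine Subgroup.mem_inf.mpr ⟨pow_mem hs 5, ?_⟩
          have : s ^ 5 = (x ^ 5)⁻¹ := eq_inv_of_mul_eq_one_left h5
          rw [this]; exact inv_mem (pow_mem hx 5)
        rw [hinf, Subgroup.mem_bot] at hs5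
        have hx5 : x ^ 5 = 1 := by rw [hs5, one_mul] at h5; exact h5
        have hx1 : x = 1 := by
          have hd : orderOf x ∣ 5 := orderOf_dvd_of_pow_eq_one hx5
          rcases (Nat.dvd_prime (by norm_num)).mp hd with h | h
          · exact orderOf_eq_one_iff.mp h
          · exfalso
            apply h5M
            have h6 := orderOf_dvd_natCard (⟨x, hx⟩ : M)
            rw [Subgroup.orderOf_mk, h] at h6
            exact h6
        subst hx1
        refine ⟨⟨⟨s, hs⟩, ?_⟩, ?_⟩
        · rw [← Subgroup.orderOf_coe]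
          simpa using hy
        · apply Subtype.ext
          simp
    rw [hstep]
    apply Nat.card_congr
    exact eS.toEquiv.subtypeEquiv (fun s => by
      show orderOf s = 5 ↔ orderOf (eS s) = 5
      rw [MulEquiv.orderOf_eq])
  · rw [hcardC]
    exact Dvd.dvd.mul_right (Dvd.dvd.mul_right (by norm_num) _) _
  · rw [hcardC]
    intro h25
    apply h5M
    rcases hidx with h | h <;> rw [h] at h25 <;> omega

end Cfsg.Agent.Lib.Helper23.FOT
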